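import Mathlib.RingTheory.MvPolynomial.Homogeneous
import Mathlib.Algebra.MvPolynomial.Funext
import Mathlib.FieldTheory.IsAlgClosed.Basic
import Mathlib.LinearAlgebra.Matrix.Rank
import Mathlib.LinearAlgebra.Dual.Lemmas

/-! # Linear forms and singular matrices of linear forms -/

set_option autoImplicit false

universe u

open MvPolynomial Matrix

namespace Groth.Agent.H23Conic

variable {k : Type u} [Field k]

/-- The linear form with coefficient vector `a`. -/
noncomputable def form {σ : Type} [Fintype σ] (a : σ → k) : MvPolynomial σ k := ∑ i, a i • X i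

theorem eval_form {σ : Type} [Fintype σ] (a x : σ → k) : eval x (form a) = a ⬝ᵥ x := by
  simp [form, dotProduct, smul_eval]

theorem isHomogeneous_form {σ : Type} [Fintype σ] (a : σ → k) : (form a).IsHomogeneous 1 := by
  rw [← mem_homogeneousSubmodule]
  exact Submodule.sum_mem _ fun i _ => Submodule.smul_mem _ _ (isHomogeneous_X k i)

theorem exists_form {σ : Type} [Fintype σ] {l : MvPolynomial σ k} (hl : l.IsHomogeneous 1) :
    ∃ a : σ → k, l = form a := by
  rw [← mem_homogeneousSubmodule, homogeneousSubmodule_one_eq_span_X, Submodule.mem_span_range_iff_exists_fun] at hl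
  obtain ⟨a, ha⟩ := hl
  exact ⟨a, ha.symm⟩

variable {V : Type*} [AddCommGroup V] [Module k V]

theorem le_ker_or_le_ker (W : Submodule k V) (f g : V →ₗ[k] k) (h : ∀ x ∈ W, f x * g x = 0) :
    W ≤ LinearMap.ker f ∨ W ≤ LinearMap.ker g := by
  by_contra hne
  obtain ⟨h1, h2⟩ := not_or.mp hne
  obtain ⟨x, hx, hfx⟩ := SetLike.not_le_iff_exists.mp h1
  obtain ⟨y, hy, hgy⟩ := SetLike.not_le_iff_exists.mp h2
  rw [LinearMap.mem_ker] at hfx hgy
  have hgx := (mul_eq_zero.mp (h x hx)).resolve_left hfx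
  have hfy := (mul_eq_zero.mp (h y hy)).resolve_right hgy
  have := h (x + y) (add_mem hx hy)
  simp [hgx, hfy] at this
  tauto

theorem exists_eq_smul_of_ker_le {L f : V →ₗ[k] k} (h : LinearMap.ker L ≤ LinearMap.ker f) :
    ∃ c : k, f = c • L := by
  have h' := mem_span_of_iInf_ker_le_ker (L := ![L]) (K := f) (le_trans (iInf_le _ 0) (by simpa using h))
  rw [Submodule.mem_span_range_iff_exists_fun] at h'
  obtain ⟨c, hc⟩ := h'
  exact ⟨c 0, by simpa using hc.symm⟩

theorem exists_perp (c : k) (d : k) : ∃ a b : k, (a, b) ≠ 0 ∧ a * c + b * d = 0 := by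
  by_cases hc : c = 0
  · exact ⟨1, 0, by simp, by simp [hc]⟩
  · exact ⟨-d, c, by simp [hc], by ring⟩

/-- If `p s - q r` is a multiple of a linear form `L`, some nonzero row and column combination of the
matrix of linear forms `!![p, q; r, s]` vanishes. -/
theorem exists_isotropic (L p q r s : V →ₗ[k] k) (hdet : ∀ x, L x = 0 → p x * s x - q x * r x = 0) :
    ∃ a₀ a₁ b₀ b₁ : k, (a₀, a₁) ≠ 0 ∧ (b₀, b₁) ≠ 0 ∧
      (a₀ * b₀) • p + (a₀ * b₁) • q + (a₁ * b₀) • r + (a₁ * b₁) • s = 0 := by
  set K := LinearMap.ker L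
  by_cases hp : K ≤ LinearMap.ker p
  · obtain ⟨c, hc⟩ := exists_eq_smul_of_ker_le hp
    rcases le_ker_or_le_ker K q r (fun x hx => by
      have := hdet x hx
      rw [LinearMap.mem_ker.mp (hp hx)] at this
      simpa using this) with hq | hr
    · obtain ⟨d, hd⟩ := exists_eq_smul_of_ker_le hq
      obtain ⟨a, b, hab, h0⟩ := exists_perp c d
      refine ⟨1, 0, a, b, by simp, hab, ?_⟩
      simp [hc, hd, smul_smul, ← add_smul, h0]
    · obtain ⟨d, hd⟩ := exists_eq_smul_of_ker_le hr
      obtain ⟨a, b, hab, h0⟩ := exists_perp c d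
      refine ⟨a, b, 1, 0, hab, by simp, ?_⟩
      simp [hc, hd, smul_smul, ← add_smul, h0]
  · have hlam : ∀ f g : V →ₗ[k] k, K ⊓ LinearMap.ker p ≤ LinearMap.ker f →
        (∀ x ∈ K, p x * s x - f x * g x = 0) →
        ∃ c₀ c₁ lam : k, f - lam • p = c₀ • L ∧ s - lam • g = c₁ • L := by
      intro f g hf hfg
      obtain ⟨lam, hl⟩ := exists_eq_smul_of_ker_le (L := p.comp K.subtype) (f := f.comp K.subtype)
        fun x hx => hf ⟨x.2, hx⟩
      have hf0 : ∀ x ∈ K, f x = lam * p x := fun x hx => LinearMap.congr_fun hl ⟨x, hx⟩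
      have h2 : K ≤ LinearMap.ker (s - lam • g) := (le_ker_or_le_ker K p _ fun x hx => by
        have := hfg x hx
        rw [hf0 x hx] at this
        simp only [LinearMap.sub_apply, LinearMap.smul_apply, smul_eq_mul]
        linear_combination this).resolve_left hp
      obtain ⟨c₀, hc₀⟩ := exists_eq_smul_of_ker_le (L := L) (f := f - lam • p) fun x hx => by
        simp [hf0 x hx]
      obtain ⟨c₁, hc₁⟩ := exists_eq_smul_of_ker_le h2
      exact ⟨c₀, c₁, lam, hc₀, hc₁⟩
    rcases le_ker_or_le_ker (K ⊓ LinearMap.ker p) q r (fun x hx => by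
      have := hdet x hx.1
      rw [LinearMap.mem_ker.mp hx.2] at this
      simpa using this) with hq | hr
    · obtain ⟨c₀, c₁, lam, h0, h1⟩ := hlam q r hq (fun x hx => hdet x hx)
      obtain ⟨a, b, hab, hperp⟩ := exists_perp c₀ c₁
      refine ⟨a, b, -lam, 1, hab, by simp, ?_⟩
      calc _ = a • (q - lam • p) + b • (s - lam • r) := by module
        _ = (a * c₀ + b * c₁) • L := by rw [h0, h1]; module
        _ = 0 := by rw [hperp, zero_smul]
    · obtain ⟨c₀, c₁, lam, h0, h1⟩ := hlam r q hr (fun x hx => by linear_combination hdet x hx)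
      obtain ⟨a, b, hab, hperp⟩ := exists_perp c₀ c₁
      refine ⟨-lam, 1, a, b, by simp, hab, ?_⟩
      calc _ = a • (r - lam • p) + b • (s - lam • q) := by module
        _ = (a * c₀ + b * c₁) • L := by rw [h0, h1]; module
        _ = 0 := by rw [hperp, zero_smul]

theorem exists_GL {a b : k} (h : (a, b) ≠ 0) : ∃ g : GL (Fin 2) k, g.val 0 0 = a ∧ g.val 0 1 = b := by
  by_cases ha : a = 0
  · subst ha
    have hb : b ≠ 0 := fun hb => h (by simp [hb])
    exact ⟨GeneralLinearGroup.mkOfDetNeZero !![0, b; 1, 0] (by simp [Matrix.det_fin_two, hb]), rfl, rfl⟩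
  · exact ⟨GeneralLinearGroup.mkOfDetNeZero !![a, b; 0, 1] (by simp [Matrix.det_fin_two, ha]), rfl, rfl⟩

end Groth.Agent.H23Conic
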